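import Groth.Agent.Lib.QuasiFlat.Basic
import Groth.Agent.Lib.ConsTop3.Range
import Groth.Agent.Lib.ConsTop3.Scheme

/-!
# Pro-constructible sets and generalizing maps
-/

universe u

set_option autoImplicit false
set_option backward.isDefEq.respectTransparency.types false

open AlgebraicGeometry CategoryTheory ProCons

namespace Groth.Agent.ProConsDesc12

variable {X Y : Scheme.{u}}

/-- The closure of a pro-constructible set consists of the specializations of its points. -/
theorem exists_specializes_of_mem_closure {Z : Set Y} (hZ : IsProConstructible Z) {z : Y}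
    (hz : z ∈ closure Z) : ∃ y ∈ Z, y ⤳ z := by
  obtain ⟨U, hU, hzU, -⟩ := exists_isAffineOpen_mem_and_subset (x := z) (U := ⊤) trivial
  obtain ⟨w, rfl⟩ : z ∈ Set.range hU.fromSpec := hU.range_fromSpec.ge hzU
  obtain ⟨X', g, hX', hg⟩ := ConsTop3.exists_affine_range_eq
    (Groth.Agent.ConsH13.isProConstructible_preimage hU.fromSpec hZ)
  haveI : IsAffine X' := hX'
  have hw : w ∈ closure (Set.range g) := by
    rw [hg, ← hU.fromSpec.isOpenEmbedding.isOpenMap.preimage_closure_eq_closure_preimage
      hU.fromSpec.continuous]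
    exact hz
  haveI : QuasiCompact g := inferInstance
  obtain ⟨y, hy⟩ := QF.exists_specializes_of_mem_closure g hw
  exact ⟨hU.fromSpec (g y), hg.le ⟨y, rfl⟩, hy.map hU.fromSpec.continuous⟩

theorem preimage_closure_eq (f : X ⟶ Y) (hf : GeneralizingMap f.base) {Z : Set Y} (hZ : IsProConstructible Z) :
    f ⁻¹' closure Z = closure (f ⁻¹' Z) := by
  refine Set.Subset.antisymm (fun x hx => ?_) (f.continuous.closure_preimage_subset _)
  obtain ⟨y, hyZ, hy⟩ := exists_specializes_of_mem_closure hZ hx
  obtain ⟨x', hx', e⟩ := hf hy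
  exact hx'.mem_closed isClosed_closure (subset_closure (show f x' ∈ Z from e ▸ hyZ))

/-- A closed subset saturated for a quasi-compact generalizing surjection comes from a closed subset. -/
theorem isClosed_of_preimage (f : X ⟶ Y) (hf : GeneralizingMap f.base) [Surjective f] [QuasiCompact f]
    {D : Set Y} (hD : IsClosed (f ⁻¹' D)) : IsClosed D := by
  have hp : IsProConstructible D := by
    rw [← Set.image_preimage_eq D f.surjective]
    refine ConsTop3.isProConstructible_image f (ConsTop3.isProConstructible_of_forall_affine fun U hU => ?_)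
    rw [ConsTop3.isProConstructible_iff_exists]
    intro q hq
    obtain ⟨_, ⟨_, ⟨g, rfl⟩, rfl⟩, hqg, hgD⟩ :=
      PrimeSpectrum.isBasis_basic_opens.exists_subset_of_mem_open (a := q) hq
        ((hD.preimage hU.fromSpec.continuous).isOpen_compl)
    exact ⟨(PrimeSpectrum.basicOpen g : Set (PrimeSpectrum _)), PrimeSpectrum.isConstructible_basicOpen, hqg,
      Set.subset_compl_iff_disjoint_right.1 hgD⟩
  refine closure_subset_iff_isClosed.1 fun y hy => ?_
  obtain ⟨d, hd, hdy⟩ := exists_specializes_of_mem_closure hp hy
  obtain ⟨x, rfl⟩ := f.surjective y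
  obtain ⟨x', hx', e⟩ := hf hdy
  exact hx'.mem_closed hD (show f x' ∈ D from e ▸ hd)

end Groth.Agent.ProConsDesc12
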